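import Cfsg.Agent.H66.RankOne3
import Cfsg.Agent.H18.SharpThree
import Cfsg.Agent.H64.Char2Graph
import Cfsg.Agent.S1131

/-!
The rank-one set-up with elementary abelian `Q`: a normal subgroup of odd index is `PSL₂(q)`.
-/

set_option autoImplicit false
set_option linter.unusedSectionVars false

namespace H56.R1

open MulAction H66 H66.R1

variable {G Ω : Type*} [Group G] [MulAction G Ω] [Finite G] {a : Ω} {t : G} {Q : Subgroup G}
variable (hS : Cfsg.IsRankOneSetup G Ω a t Q) (hE : ∀ x ∈ Q, x * x = 1)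

include hS hE

theorem comm_Q {x y : G} (hx : x ∈ Q) (hy : y ∈ Q) : x * y = y * x := by
  have hxi : x⁻¹ = x := inv_eq_self_of_sq (hE x hx)
  have hyi : y⁻¹ = y := inv_eq_self_of_sq (hE y hy)
  have h := inv_eq_self_of_sq (hE _ (mul_mem hx hy))
  rw [mul_inv_rev, hxi, hyi] at h
  exact h.symm

theorem mem_involutionsIn {x : G} (hx : x ∈ Q) (hx1 : x ≠ 1) :
    x ∈ Cfsg.involutionsIn (stabilizer G a : Set G) := ⟨hS.le hx, hx1, hE x hx⟩

/-- For elementary abelian `Q` the distinguished pair is `(s, s)`. -/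
theorem exists_braid : ∃ s ∈ Q, s ≠ 1 ∧ t * s * t = s * t * s := by
  obtain ⟨⟨s, r⟩, ⟨hs, hr, he⟩, -⟩ := exists_pair hS
  simp only [] at hs hr he
  have hsQ : s ∈ Q := invol_mem_Q hS (mem_stabilizer_iff.mp hs.1) hs.2.2
  have hri : r⁻¹ = r := inv_eq_self_of_sq (hE r hr)
  rw [hri] at he
  have hsr : (s * r) * t = t * (s * r) := by
    have e1 : t * r * t = s * t * r := by
      calc t * r * t = t * (r * t * r) * r⁻¹ := by group
        _ = t * (t * s * t) * r := by rw [← he, hri]
        _ = (t * t) * s * t * r := by group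
        _ = s * t * r := by rw [hS.mul_self, one_mul]
    have e2 : (s * t * r) * (s * t * r) = 1 := by
      rw [← e1]
      calc t * r * t * (t * r * t) = t * r * (t * t) * r * t := by group
        _ = t * (r * r) * t := by rw [hS.mul_self]; group
        _ = 1 := by rw [hE r hr, mul_one, hS.mul_self]
    have hsi : s⁻¹ = s := inv_eq_self_of_sq hs.2.2
    have e3 : t * r * s * t = s * r := by
      calc t * r * s * t = s⁻¹ * ((s * t * r) * (s * t * r)) * r⁻¹ := by group
        _ = s * r := by rw [e2, hsi, hri, mul_one]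
    calc s * r * t = t * r * s * t * t := by rw [e3]
      _ = t * (r * s) * (t * t) := by group
      _ = t * (s * r) := by rw [hS.mul_self, mul_one, comm_Q hS hE hr hsQ]
  have hfix : (s * r) • (t • a) = t • a := by
    rw [← mul_smul, hsr, mul_smul, fix_a hS (mul_mem hsQ hr)]
  have h1 := eq_one_of_mem_inf hS (mul_mem hsQ hr) hfix
  have hrs : r = s := by
    rw [← inv_eq_self_of_sq hs.2.2]
    exact (inv_eq_of_mul_eq_one_right h1).symm
  subst hrs
  exact ⟨r, hr, hs.2.1, he⟩

variable [FaithfulSMul G Ω]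
variable (h2 : ∃ x y : G, x ≠ 1 ∧ y ≠ 1 ∧ x ≠ y ∧ x * x = 1 ∧ y * y = 1 ∧ x * y = y * x)

/-- The subgroup generated by `Q`, the inverted elements and `t`. -/
def hull (G : Type*) {Ω : Type*} [Group G] [MulAction G Ω] (a : Ω) (t : G) (Q : Subgroup G) : Subgroup G :=
  Subgroup.closure ((Q : Set G) ∪ Cfsg.invertedBy (twoPt G a t) t ∪ {t})

theorem Q_le_hull : Q ≤ hull G a t Q := fun x hx => Subgroup.subset_closure (Or.inl (Or.inl hx))

theorem t_mem_hull : t ∈ hull G a t Q := Subgroup.subset_closure (Or.inr rfl)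

include h2

/-- Every element of the hull has one of the two normal forms. -/
theorem hull_cases {g : G} (hg : g ∈ hull G a t Q) :
    ∃ u ∈ Q, ∃ k ∈ Cfsg.invertedBy (twoPt G a t) t, g = u * k ∨ ∃ w ∈ Q, g = u * k * t * w := by
  obtain ⟨C, hCset, -, hCn⟩ := Cfsg.Agent.S1131.result hS h2
  have hC : ∀ {x : G}, x ∈ Cfsg.invertedBy (twoPt G a t) t ↔ x ∈ C := fun {x} => by
    rw [← hCset]; rfl
  have htc : ∀ {c : G}, c ∈ C → t * c * t = c⁻¹ := fun {c} hc => by
    have := (hC.mpr hc).2; rwa [t_inv hS] at this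
  have hcD : ∀ {c : G}, c ∈ C → c ∈ twoPt G a t := fun {c} hc => (hC.mpr hc).1
  obtain ⟨s, hsQ, hs1, hbr⟩ := exists_braid hS hE
  -- the set of normal forms is closed under right multiplication by the generators
  have step : ∀ g : G, (∃ u ∈ Q, ∃ k ∈ C, g = u * k ∨ ∃ w ∈ Q, g = u * k * t * w) →
      ∀ y, (y ∈ Q ∨ y ∈ C ∨ y = t) →
      ∃ u ∈ Q, ∃ k ∈ C, g * y = u * k ∨ ∃ w ∈ Q, g * y = u * k * t * w := by
    rintro g ⟨u, hu, k, hk, rfl | ⟨w, hw, rfl⟩⟩ y (hy | hy | hy)
    · exact ⟨u * (k * y * k⁻¹), mul_mem hu (twoPt_conj_Q hS (hcD hk) hy), k, hk, Or.inl (by group)⟩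
    · exact ⟨u, hu, k * y, mul_mem hk hy, Or.inl (mul_assoc _ _ _)⟩
    · subst hy; exact ⟨u, hu, k, hk, Or.inr ⟨1, one_mem _, by group⟩⟩
    · exact ⟨u, hu, k, hk, Or.inr ⟨w * y, mul_mem hw hy, mul_assoc _ _ _⟩⟩
    · refine ⟨u, hu, k * y⁻¹, mul_mem hk (inv_mem hy),
        Or.inr ⟨y⁻¹ * w * y, twoPt_conj_Q' hS (hcD hy) hw, ?_⟩⟩
      have h1 : y⁻¹ * t = t * y := by
        rw [← htc hy, mul_assoc (t * y), hS.mul_self, mul_one]
      calc u * k * t * w * y = u * k * (t * y) * (y⁻¹ * w * y) := by group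
        _ = _ := by rw [← h1]; group
    · rw [hy]
      by_cases hw1 : w = 1
      · exact ⟨u, hu, k, hk, Or.inl (by rw [hw1, mul_one, mul_assoc, hS.mul_self, mul_one])⟩
      obtain ⟨l, hl, hle⟩ := exists_conj_inverted hS (mem_involutionsIn hS hE hsQ hs1)
        (mem_involutionsIn hS hE hw hw1)
      have hl' := hC.mp hl
      set s' := l * s * l⁻¹ with hs'
      have hs'Q : s' ∈ Q := twoPt_conj_Q hS (hcD hl') hsQ
      have h1 : t * l⁻¹ = l * t := by
        rw [← htc hl']
        calc t * (t * l * t) = (t * t) * l * t := by group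
          _ = l * t := by rw [hS.mul_self, one_mul]
      have h2 : l * t = t * l⁻¹ := h1.symm
      have key : t * w * t = s' * (l * l) * t * s' := by
        calc t * w * t = (t * l⁻¹) * s * (l * t) := by rw [← hle]; group
          _ = l * (t * s * t) * l⁻¹ := by rw [h1]; nth_rewrite 2 [h2]; group
          _ = s' * (l * t * l) * (l⁻¹ * s * l⁻¹) := by rw [hbr, hs']; group
          _ = _ := by
            rw [hs']
            calc l * s * l⁻¹ * (l * t * l) * (l⁻¹ * s * l⁻¹) = l * s * (t * s * l⁻¹) := by group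
              _ = l * s * l⁻¹ * l * (t * l⁻¹) * (l * s * l⁻¹) := by group
              _ = _ := by rw [h1]; group
      refine ⟨u * (k * s' * k⁻¹), mul_mem hu (twoPt_conj_Q hS (hcD hk) hs'Q), k * (l * l),
        mul_mem hk (mul_mem hl' hl'), Or.inr ⟨s', hs'Q, ?_⟩⟩
      calc u * k * t * w * t = u * k * (t * w * t) := by group
        _ = _ := by rw [key]; group
  suffices ∃ u ∈ Q, ∃ k ∈ C, g = u * k ∨ ∃ w ∈ Q, g = u * k * t * w by
    obtain ⟨u, hu, k, hk, h⟩ := this
    exact ⟨u, hu, k, hC.mpr hk, h⟩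
  induction hg using Subgroup.closure_induction_right with
  | one => exact ⟨1, one_mem _, 1, one_mem _, Or.inl (by group)⟩
  | mul_right x _ y hy hx =>
    rcases hy with (hy | hy) | hy
    · exact step x hx y (Or.inl hy)
    · exact step x hx y (Or.inr (Or.inl (hC.mp hy)))
    · exact step x hx y (Or.inr (Or.inr hy))
  | mul_inv_cancel x _ y hy hx =>
    rcases hy with (hy | hy) | hy
    · exact step x hx _ (Or.inl (inv_mem hy))
    · exact step x hx _ (Or.inr (Or.inl (inv_mem (hC.mp hy))))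
    · rw [show y = t from hy]
      exact step x hx _ (Or.inr (Or.inr (t_inv hS)))

theorem hull_fix {g : G} (hg : g ∈ hull G a t Q) (ha : g • a = a) (hb : g • (t • a) = t • a) :
    g ∈ Cfsg.invertedBy (twoPt G a t) t := by
  obtain ⟨u, hu, k, hk, rfl | ⟨w, hw, rfl⟩⟩ := hull_cases hS hE h2 hg
  · have : u = 1 := eq_one_of_mem_inf hS hu (by
      rwa [mul_smul, (mem_twoPt.mp hk.1).2] at hb)
    rwa [this, one_mul]
  · exfalso
    rw [mul_smul, fix_a hS hw, mul_smul, mul_smul, (mem_twoPt.mp hk.1).2] at ha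
    exact Q_smul_ne hS hu (ta_ne hS) ha

theorem hull_normal : (hull G a t Q).Normal := by
  obtain ⟨C, hCset, -, hCn⟩ := Cfsg.Agent.S1131.result hS h2
  have hCle : ∀ {x : G}, x ∈ C → x ∈ hull G a t Q := fun {x} hx =>
    Subgroup.subset_closure (Or.inl (Or.inr (hCset ▸ hx)))
  set L := hull G a t Q
  have hD : twoPt G a t ≤ Subgroup.normalizer (L : Set G) := by
    intro d hd
    have key : ∀ e ∈ twoPt G a t, ∀ x ∈ L, e * x * e⁻¹ ∈ L := by
      intro e he
      have : L.map (MulAut.conj e).toMonoidHom ≤ L := by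
        show (Subgroup.closure _).map _ ≤ _
        rw [MonoidHom.map_closure, Subgroup.closure_le]
        rintro _ ⟨x, (hx | hx) | hx, rfl⟩
        · exact Q_le_hull hS hE (twoPt_conj_Q hS he hx)
        · exact hCle (hCn e he x (hCset.symm ▸ hx : x ∈ (C : Set G)))
        · rw [show x = t from hx]
          show e * t * e⁻¹ ∈ L
          have hk : e * t * e⁻¹ * t ∈ Cfsg.invertedBy (twoPt G a t) t := by
            refine ⟨?_, ?_⟩
            · have := mul_mem he (t_conj_mem hS (inv_mem he))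
              simpa [mul_assoc] using this
            · rw [t_inv hS]
              calc t * (e * t * e⁻¹ * t) * t = t * e * t * e⁻¹ * (t * t) := by group
                _ = (e * t * e⁻¹ * t)⁻¹ := by
                  rw [hS.mul_self, mul_one, mul_inv_rev, mul_inv_rev, mul_inv_rev, inv_inv, t_inv hS]
                  group
          have h' := mul_mem (Subgroup.subset_closure (Or.inl (Or.inr hk)) : _ ∈ L) (t_mem_hull hS hE)
          rwa [mul_assoc (e * t * e⁻¹), hS.mul_self, mul_one] at h'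
      exact fun x hx => this ⟨x, hx, rfl⟩
    rw [Subgroup.mem_normalizer_iff]
    refine fun x => ⟨key d hd x, fun hx => ?_⟩
    simpa [mul_assoc] using key d⁻¹ (inv_mem hd) _ hx
  refine Subgroup.normalizer_eq_top_iff.mp (eq_top_iff.mpr fun g _ => ?_)
  have hLN : L ≤ Subgroup.normalizer (L : Set G) := Subgroup.le_normalizer
  have hQN : Q ≤ Subgroup.normalizer (L : Set G) := (Q_le_hull hS hE).trans hLN
  by_cases hga : g • a = a
  · obtain ⟨q, hq, d, hd, rfl⟩ := exists_decomp hS hga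
    exact mul_mem (hQN hq) (hD hd)
  · obtain ⟨⟨x, y⟩, ⟨hx, hy, rfl⟩, -⟩ := canonical hS hga
    obtain ⟨q, hq, d, hd, hxe⟩ := exists_decomp hS (mem_stabilizer_iff.mp hx)
    show x * t * y ∈ _
    simp only [] at hxe; rw [hxe]
    exact mul_mem (mul_mem (mul_mem (hQN hq) (hD hd)) (hLN (t_mem_hull hS hE))) (hQN hy)

theorem hull_index_odd : Odd (hull G a t Q).index :=
  (index_Q_odd hS).of_dvd_nat (Subgroup.index_dvd_of_le (Q_le_hull hS hE))

/-- With elementary abelian `Q` the group is an extension of `PSL₂(q)` by a group of odd order. -/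
theorem psl_case :
    (hull G a t Q).Normal ∧ Odd (hull G a t Q).index ∧
      ∃ (F : Type) (_ : Field F) (_ : Fintype F), (∃ n : ℕ, 2 ≤ n ∧ Fintype.card F = 2 ^ n) ∧
        Nonempty (hull G a t Q ≃* Matrix.ProjectiveSpecialLinearGroup (Fin 2) F) := by
  classical
  haveI := finite_points hS
  letI := Fintype.ofFinite Ω
  refine ⟨hull_normal hS hE h2, hull_index_odd hS hE h2, ?_⟩
  obtain ⟨C, hCset, -, -⟩ := Cfsg.Agent.S1131.result hS h2
  obtain ⟨k₀, hk₀, hk₀1⟩ := exists_inverted_ne_one hS h2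
  have hC : ∀ {x : G}, x ∈ Cfsg.invertedBy (twoPt G a t) t ↔ x ∈ C := fun {x} => by
    rw [← hCset]; rfl
  set L := hull G a t Q with hL
  set R := (MulAction.toPermHom ↥L Ω).range with hR
  have hCL : ∀ {x : G}, x ∈ C → x ∈ L := fun {x} hx =>
    Subgroup.subset_closure (Or.inl (Or.inr (hC.mpr hx)))
  -- two points can be moved to `a` and `t • a`
  have h2t : ∀ x y : Ω, x ≠ y → ∃ g ∈ L, g • x = a ∧ g • y = t • a := by
    intro x y hxy
    obtain ⟨g, hg, hgx⟩ : ∃ g ∈ L, g • x = a := by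
      by_cases hx : x = a
      · exact ⟨1, one_mem _, by rw [one_smul, hx]⟩
      · obtain ⟨⟨q, hq⟩, hq1, -⟩ := Q_regular hS hx (ta_ne hS)
        simp only [] at hq1
        exact ⟨t * q, mul_mem (t_mem_hull hS hE) (Q_le_hull hS hE hq),
          by rw [mul_smul, hq1, t_smul_smul hS]⟩
    have hgy : g • y ≠ a := fun h => hxy (MulAction.injective g (hgx.trans h.symm))
    obtain ⟨⟨q, hq⟩, hq1, -⟩ := Q_regular hS hgy (ta_ne hS)
    simp only [] at hq1
    exact ⟨q * g, mul_mem (Q_le_hull hS hE hq) hg, by rw [mul_smul, hgx, fix_a hS hq],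
      by rw [mul_smul, hq1]⟩
  have hfree : ∀ g : ↥L, ∀ x y z : Ω, x ≠ y → x ≠ z → y ≠ z →
      g • x = x → g • y = y → g • z = z → g = 1 := by
    intro g x y z hxy hxz hyz hx hy hz
    obtain ⟨w, hw, hwx, hwy⟩ := h2t x y hxy
    have hfix : ∀ p : Ω, (g : G) • p = p → (w * g * w⁻¹) • (w • p) = w • p := fun p hp => by
      rw [mul_smul, mul_smul, inv_smul_smul, hp]
    have h1 := hfix x hx
    have h2' := hfix y hy
    have h3 := hfix z hz
    rw [hwx] at h1
    rw [hwy] at h2'
    have hk := hull_fix hS hE h2 (mul_mem (mul_mem hw g.2) (inv_mem hw)) h1 h2'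
    by_contra hg1
    refine inverted_fpf hS hk (fun h => hg1 (Subtype.ext (conj_eq_one_iff.mp h))) ?_ ?_ h3
    · rw [← hwx]; exact fun h => hxz (MulAction.injective w h).symm
    · rw [← hwy]; exact fun h => hyz (MulAction.injective w h).symm
  -- the inverted elements are transitive on the remaining points
  have hcard : Nat.card C + 1 = Nat.card Q := by
    have h1 : Nat.card C = Nat.card (Cfsg.involutionsIn (stabilizer G a : Set G)) := by
      rw [← card_inverted hS]
      exact Nat.card_congr (Equiv.subtypeEquivRight fun x => hC.symm)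
    have h3 : Nat.card (Cfsg.involutionsIn (stabilizer G a : Set G)) = Nat.card {x : Q // x ≠ 1} :=
      Nat.card_congr
        { toFun := fun x => ⟨⟨x.1, invol_mem_Q hS (mem_stabilizer_iff.mp x.2.1) x.2.2.2⟩,
            fun h => x.2.2.1 (congrArg Subtype.val h)⟩
          invFun := fun x => ⟨(x.1 : G), mem_involutionsIn hS hE x.1.2 fun h => x.2 (Subtype.ext h)⟩
          left_inv := fun x => rfl
          right_inv := fun x => rfl }
    rw [h1, h3, ← Finite.card_option]
    exact Nat.card_congr (Equiv.optionSubtypeNe 1)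
  have hmove : ∀ c : Ω, c ≠ a → c ≠ t • a → ∀ d : Ω, d ≠ a → d ≠ t • a → ∃ k ∈ C, k • c = d := by
    intro c hca hcb
    let f : C → {p : Ω // p ≠ a ∧ p ≠ t • a} := fun k => ⟨(k : G) • c,
      fun e => hca (MulAction.injective (k : G) (e.trans (mem_twoPt.mp (hC.mpr k.2).1).1.symm)),
      fun e => hcb (MulAction.injective (k : G) (e.trans (mem_twoPt.mp (hC.mpr k.2).1).2.symm))⟩
    have hf : Function.Injective f := by
      intro h k e
      have e' : (h : G) • c = (k : G) • c := congrArg Subtype.val e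
      by_contra hne
      refine inverted_fpf hS (hC.mpr (mul_mem (inv_mem k.2) h.2))
        (fun h1 => hne (Subtype.ext (inv_mul_eq_one.mp h1).symm)) hca hcb ?_
      rw [mul_smul, e', inv_smul_smul]
    have hc2 : Nat.card C = Nat.card {p : Ω // p ≠ a ∧ p ≠ t • a} := by
      rw [Nat.card_eq_fintype_card (α := {p : Ω // p ≠ a ∧ p ≠ t • a}), Fintype.card_subtype,
        show (Finset.univ.filter fun p : Ω => p ≠ a ∧ p ≠ t • a) = ({a, t • a} : Finset Ω)ᶜ by ext p; simp,
        Finset.card_compl, Finset.card_pair (ta_ne hS).symm, ← Nat.card_eq_fintype_card, card_points hS]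
      omega
    have hbij := (Nat.bijective_iff_injective_and_card f).mpr ⟨hf, hc2⟩
    intro d hda hdb
    obtain ⟨k, hk⟩ := hbij.2 ⟨d, hda, hdb⟩
    exact ⟨k, k.2, congrArg Subtype.val hk⟩
  have h3t : IsMultiplyPretransitive R Ω 3 := by
    refine ⟨fun x y => ?_⟩
    obtain ⟨g, hg, g0, g1⟩ := h2t (x 0) (x 1) fun e => absurd (x.injective e) (by decide)
    obtain ⟨g', hg', g'0, g'1⟩ := h2t (y 0) (y 1) fun e => absurd (y.injective e) (by decide)
    have h20 : ∀ (p : Fin 3 ↪ Ω) (w : G), w • p 0 = a → w • p 1 = t • a →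
        w • p 2 ≠ a ∧ w • p 2 ≠ t • a := fun p w w0 w1 =>
      ⟨fun e => absurd (p.injective (MulAction.injective w (e.trans w0.symm))) (by decide),
        fun e => absurd (p.injective (MulAction.injective w (e.trans w1.symm))) (by decide)⟩
    obtain ⟨k, hk, hk2⟩ := hmove _ (h20 x g g0 g1).1 (h20 x g g0 g1).2 _ (h20 y g' g'0 g'1).1
      (h20 y g' g'0 g'1).2
    refine ⟨⟨_, ⟨g'⁻¹ * k * g, mul_mem (mul_mem (inv_mem hg') (hCL hk)) hg⟩, rfl⟩, ?_⟩
    ext i
    fin_cases i
    · show (g'⁻¹ * k * g) • x 0 = y 0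
      rw [mul_smul, mul_smul, g0, (mem_twoPt.mp (hC.mpr hk).1).1, inv_smul_eq_iff, g'0]
    · show (g'⁻¹ * k * g) • x 1 = y 1
      rw [mul_smul, mul_smul, g1, (mem_twoPt.mp (hC.mpr hk).1).2, inv_smul_eq_iff, g'1]
    · show (g'⁻¹ * k * g) • x 2 = y 2
      rw [mul_smul, mul_smul, hk2, inv_smul_smul]
  have hQ4 : 3 ≤ Nat.card Q := by
    haveI : Nontrivial C := ⟨⟨⟨k₀, hC.mp hk₀⟩, 1, fun h => hk₀1 (congrArg Subtype.val h)⟩⟩
    have : 1 < Nat.card C := Finite.one_lt_card
    omega
  have hΩ : Fintype.card Ω = Nat.card Q + 1 := by rw [← Nat.card_eq_fintype_card, card_points hS]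
  obtain ⟨n, hn1, hn, F, iF, iFt, hF, ⟨e₀⟩⟩ := H18.sharp_three_odd (G := R) (α := Ω) (by omega)
    (by rw [hΩ]; exact Even.add_one hS.even_card) h3t
    (fun g x y z hxy hxz hyz hx hy hz => by
      obtain ⟨_, g, rfl⟩ := g
      have := hfree g x y z hxy hxz hyz hx hy hz
      subst this
      exact Subtype.ext (map_one _))
  have hinj : Function.Injective (MulAction.toPermHom ↥L Ω) := MulAction.toPerm_injective
  haveI : CharP F 2 := by
    obtain ⟨q, hq⟩ := CharP.exists F
    obtain ⟨j, hq', hcardF⟩ := FiniteField.card F q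
    rw [hF] at hcardF
    have hdvd : q ∣ 2 ^ n := hcardF ▸ dvd_pow_self q (PNat.ne_zero j)
    exact (Nat.prime_dvd_prime_iff_eq hq' Nat.prime_two).mp (hq'.dvd_of_dvd_pow hdvd) ▸ hq
  obtain ⟨e'⟩ := H64.psl2_char2_equiv (F := F)
  refine ⟨F, iF, iFt, ⟨n, ?_, hF⟩, ⟨((MonoidHom.ofInjective hinj).trans e₀).trans e'⟩⟩
  by_contra hlt
  obtain rfl : n = 1 := by omega
  omega

end H56.R1
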